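/- A pretriangulated category with countable coproducts is idempotent complete. -/
import Mathlib.CategoryTheory.Triangulated.Pretriangulated
import Mathlib.CategoryTheory.Idempotents.Basic
import Mathlib.CategoryTheory.Limits.Shapes.Products

set_option autoImplicit false

open CategoryTheory CategoryTheory.Limits CategoryTheory.Pretriangulated

universe v u

namespace Groth.Agent.TriIdem.Coproducts

theorem isIdempotentComplete {D : Type u} [Category.{v} D] [Preadditive D] [HasZeroObject D]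
    [HasShift D ℤ] [∀ n : ℤ, (shiftFunctor D n).Additive] [Pretriangulated D]
    [HasColimitsOfShape (Discrete ℕ) D] : IsIdempotentComplete D := by
  refine ⟨fun X e he => ?_⟩
  let P := ∐ fun _ : ℕ => X
  let ι : ℕ → (X ⟶ P) := fun n => Sigma.ι (fun _ : ℕ => X) n
  let m : P ⟶ P := Sigma.desc fun n => ι n - e ≫ ι (n + 1)
  let r : P ⟶ P := Sigma.desc fun n => (𝟙 X - e) ≫ ι n - e ≫ ∑ k ∈ Finset.range n, ι k
  have hm : ∀ n, ι n ≫ m = ι n - e ≫ ι (n + 1) := fun n => by simp [ι, m]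
  have hr : ∀ n, ι n ≫ r = (𝟙 X - e) ≫ ι n - e ≫ ∑ k ∈ Finset.range n, ι k :=
    fun n => by simp [ι, r]
  have hmr : m ≫ r = 𝟙 P := by
    refine Sigma.hom_ext _ _ fun n => ?_
    change ι n ≫ m ≫ r = ι n ≫ 𝟙 _
    rw [← Category.assoc, hm, Preadditive.sub_comp, Category.assoc, hr, hr, Category.comp_id,
      Finset.sum_range_succ]
    simp only [Preadditive.comp_sub, Preadditive.sub_comp, Preadditive.comp_add, reassoc_of% he,
      Category.id_comp]
    abel
  obtain ⟨Z, q, h, hT⟩ := distinguished_cocone_triangle m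
  have hh : h = 0 := by
    have h1 : h ≫ m⟦(1 : ℤ)⟧' = 0 := comp_distTriang_mor_zero₃₁ _ hT
    calc h = h ≫ (m ≫ r)⟦(1 : ℤ)⟧' := by rw [hmr, CategoryTheory.Functor.map_id, Category.comp_id]
      _ = 0 := by rw [Functor.map_comp, ← Category.assoc, h1, zero_comp]
  have hq : ∀ n, ι n ≫ q = e ≫ ι (n + 1) ≫ q := fun n => by
    have h1 : ι n ≫ m ≫ q = 0 := by
      rw [show m ≫ q = 0 from comp_distTriang_mor_zero₁₂ _ hT, comp_zero]
    rwa [← Category.assoc, hm, Preadditive.sub_comp, Category.assoc, sub_eq_zero] at h1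
  have hq' : ∀ n, e ≫ ι n ≫ q = ι n ≫ q := fun n => by
    rw [hq n, reassoc_of% he]
  have hq'' : ∀ n, ι n ≫ q = ι 0 ≫ q := fun n => by
    induction n with
    | zero => rfl
    | succ n ih => rw [← hq', ← hq, ih]
  have hmd : m ≫ Sigma.desc (fun _ : ℕ => e) = 0 := by
    refine Sigma.hom_ext _ _ fun n => ?_
    change ι n ≫ m ≫ _ = _
    rw [← Category.assoc, hm]
    simp [ι, he]
  obtain ⟨f, hf⟩ := Triangle.yoneda_exact₂ _ hT (Sigma.desc fun _ : ℕ => e) hmd
  change Z ⟶ X at f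
  change Sigma.desc _ = q ≫ f at hf
  have hqf : ∀ n, ι n ≫ q ≫ f = e := fun n => by rw [← hf]; simp [ι]
  have hfq : f ≫ ι 0 ≫ q = 𝟙 Z := by
    have key : q ≫ (f ≫ ι 0 ≫ q - 𝟙 Z) = 0 := by
      refine Sigma.hom_ext _ _ fun n => ?_
      change ι n ≫ q ≫ _ = ι n ≫ 0
      rw [comp_zero, Preadditive.comp_sub, Preadditive.comp_sub, Category.comp_id, sub_eq_zero,
        ← hq'' n]
      calc ι n ≫ q ≫ f ≫ ι n ≫ q = (ι n ≫ q ≫ f) ≫ ι n ≫ q := by simp only [Category.assoc]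
        _ = ι n ≫ q := by rw [hqf, hq']
    obtain ⟨u, hu⟩ := Triangle.yoneda_exact₃ _ hT (f ≫ ι 0 ≫ q - 𝟙 Z) key
    exact sub_eq_zero.1 (hu.trans ((congrArg (· ≫ u) hh).trans zero_comp))
  exact ⟨Z, f, ι 0 ≫ q, hfq, by rw [Category.assoc, hqf]⟩

end Groth.Agent.TriIdem.Coproducts
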