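/- A triangulated category with a bounded t-structure is idempotent complete. -/
import Mathlib.CategoryTheory.Triangulated.TStructure.TruncLTGE
import Mathlib.CategoryTheory.Idempotents.Basic

set_option autoImplicit false

open CategoryTheory CategoryTheory.Limits CategoryTheory.Pretriangulated

universe v u

namespace Groth.Agent.TriIdem.TStruct

variable {C : Type u} [Category.{v} C] [Preadditive C] [HasZeroObject C] [HasShift C ℤ]
  [∀ n : ℤ, (shiftFunctor C n).Additive] [Pretriangulated C]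

/-- All idempotents of `X` split. -/
def Splits (X : C) : Prop :=
  ∀ e : X ⟶ X, e ≫ e = e → ∃ (Y : C) (i : Y ⟶ X) (p : X ⟶ Y), i ≫ p = 𝟙 Y ∧ p ≫ i = e

lemma splits_of_distTriang {A X B : C} (f : A ⟶ X) (g : X ⟶ B) (h : B ⟶ A⟦(1 : ℤ)⟧)
    (hT : Triangle.mk f g h ∈ distTriang C) (h0 : ∀ u : A ⟶ B, u = 0)
    (h1 : ∀ u : A⟦(1 : ℤ)⟧ ⟶ B, u = 0) (hA : Splits A) (hB : Splits B) : Splits X := by
  intro e he
  obtain ⟨eA, hfA⟩ : ∃ eA : A ⟶ A, f ≫ e = eA ≫ f :=
    Triangle.coyoneda_exact₂ _ hT (f ≫ e) (h0 _)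
  obtain ⟨eB, hgB, hhB⟩ := complete_distinguished_triangle_morphism _ _ hT hT eA e hfA
  change B ⟶ B at eB
  change g ≫ eB = e ≫ g at hgB
  change h ≫ eA⟦(1 : ℤ)⟧' = eB ≫ h at hhB
  have hcancel : ∀ u : A ⟶ A, u ≫ f = 0 → u = 0 := by
    intro u hu
    have h2 : u⟦(1 : ℤ)⟧' ≫ f⟦(1 : ℤ)⟧' = 0 := by rw [← Functor.map_comp, hu, Functor.map_zero]
    obtain ⟨w, hw⟩ := Triangle.coyoneda_exact₁ _ hT (u⟦(1 : ℤ)⟧') h2
    apply (shiftFunctor C (1 : ℤ)).map_injective
    rw [Functor.map_zero]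
    exact hw.trans ((congrArg (· ≫ h) (h1 w)).trans zero_comp)
  have hA2 : eA ≫ eA = eA := by
    rw [← sub_eq_zero]
    apply hcancel
    rw [Preadditive.sub_comp, Category.assoc, ← hfA, ← Category.assoc, ← hfA, Category.assoc, he,
      sub_self]
  have hB2 : eB ≫ eB = eB := by
    rw [← sub_eq_zero]
    have key : g ≫ (eB ≫ eB - eB) = 0 := by
      rw [Preadditive.comp_sub, ← Category.assoc, hgB, Category.assoc, hgB, ← Category.assoc, he,
        sub_self]
    obtain ⟨w, hw⟩ := Triangle.yoneda_exact₃ _ hT (eB ≫ eB - eB) key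
    exact hw.trans ((congrArg (h ≫ ·) (h1 w)).trans comp_zero)
  obtain ⟨A₁, iA, pA, hiA, hpA⟩ := hA eA hA2
  obtain ⟨B₁, iB, pB, hiB, hpB⟩ := hB eB hB2
  have hiBe : iB ≫ eB = iB := by rw [← hpB, ← Category.assoc, hiB, Category.id_comp]
  have hAp : eA ≫ pA = pA := by rw [← hpA, Category.assoc, hiA, Category.comp_id]
  let h₁ : B₁ ⟶ A₁⟦(1 : ℤ)⟧ := iB ≫ h ≫ pA⟦(1 : ℤ)⟧'
  obtain ⟨X₁, f₁, g₁, hT₁⟩ := distinguished_cocone_triangle₂ h₁
  obtain ⟨i, hfi, hgi⟩ := complete_distinguished_triangle_morphism₂ _ _ hT₁ hT iA iB (by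
    change h₁ ≫ iA⟦(1 : ℤ)⟧' = iB ≫ h
    simp only [h₁, Category.assoc, ← Functor.map_comp, hpA]
    rw [hhB, reassoc_of% hiBe])
  change X₁ ⟶ X at i
  change f₁ ≫ i = iA ≫ f at hfi
  change g₁ ≫ iB = i ≫ g at hgi
  obtain ⟨p, hfp, hgp⟩ := complete_distinguished_triangle_morphism₂ _ _ hT hT₁ pA pB (by
    change h ≫ pA⟦(1 : ℤ)⟧' = pB ≫ h₁
    simp only [h₁, reassoc_of% hpB]
    rw [← reassoc_of% hhB, ← Functor.map_comp, hAp])
  change X ⟶ X₁ at p
  change f ≫ p = pA ≫ f₁ at hfp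
  change g ≫ pB = p ≫ g₁ at hgp
  have hf₁ : f₁ ≫ i ≫ p = f₁ := by rw [reassoc_of% hfi, hfp, reassoc_of% hiA]
  have hg₁ : (i ≫ p) ≫ g₁ = g₁ := by
    rw [Category.assoc, ← hgp, ← Category.assoc, ← hgi, Category.assoc, hiB, Category.comp_id]
  let φ : Triangle.mk f₁ g₁ h₁ ⟶ Triangle.mk f₁ g₁ h₁ :=
    Triangle.homMk _ _ (𝟙 A₁) (i ≫ p) (𝟙 B₁) (hf₁.trans (Category.id_comp _).symm)
      ((Category.comp_id _).trans hg₁.symm)
      ((congrArg (h₁ ≫ ·) (CategoryTheory.Functor.map_id _ _)).trans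
        ((Category.comp_id _).trans (Category.id_comp _).symm))
  haveI : IsIso (i ≫ p) := isIso₂_of_isIso₁₃ φ hT₁ hT₁ (IsIso.id _) (IsIso.id _)
  let p' := p ≫ inv (i ≫ p)
  have hip' : i ≫ p' = 𝟙 X₁ := by
    simp only [p']; rw [← Category.assoc, IsIso.hom_inv_id]
  obtain ⟨d, hd⟩ : ∃ d : X ⟶ X, d = e - p' ≫ i := ⟨_, rfl⟩
  have hfd : f ≫ d = 0 := by
    have e1 : f₁ ≫ inv (i ≫ p) = f₁ := by rw [IsIso.comp_inv_eq, hf₁]
    simp only [hd, p', Preadditive.comp_sub, Category.assoc]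
    rw [reassoc_of% hfp, reassoc_of% e1, hfi, reassoc_of% hpA, hfA, sub_self]
  have hdg : d ≫ g = 0 := by
    have e1 : inv (i ≫ p) ≫ g₁ = g₁ := by rw [IsIso.inv_comp_eq, hg₁]
    simp only [hd, p', Preadditive.sub_comp, Category.assoc]
    rw [← hgi, reassoc_of% e1, ← reassoc_of% hgp, hpB, hgB, sub_self]
  have hdd : d ≫ d = 0 := by
    obtain ⟨l, hl⟩ := Triangle.coyoneda_exact₂ _ hT d hdg
    change X ⟶ A at l
    change d = l ≫ f at hl
    calc d ≫ d = l ≫ f ≫ d := by rw [← Category.assoc, ← hl]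
      _ = 0 := by rw [hfd, comp_zero]
  have hk : (p' ≫ i) ≫ (p' ≫ i) = p' ≫ i := by rw [Category.assoc, reassoc_of% hip']
  have hee : p' ≫ i = e - d := by simp [hd]
  have hed : e ≫ d + d ≫ e = d := by
    rw [hee] at hk
    simp only [Preadditive.comp_sub, Preadditive.sub_comp, he, hdd, sub_zero] at hk
    -- hk : e - e ≫ d - d ≫ e = e - d (up to association)
    have h3 : e ≫ d + d ≫ e - d = 0 := by
      rw [← sub_eq_zero.2 hk.symm]; abel
    exact sub_eq_zero.1 h3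
  have hede : e ≫ d ≫ e = 0 := by
    have h2 : e ≫ (e ≫ d + d ≫ e) = e ≫ d := by rw [hed]
    rwa [Preadditive.comp_add, ← Category.assoc, he, add_eq_left] at h2
  have hie : i ≫ e ≫ p' = 𝟙 X₁ := by
    have h2 : (p' ≫ i) ≫ d + d ≫ (p' ≫ i) = d := by
      rw [hee, Preadditive.sub_comp, Preadditive.comp_sub, hdd, sub_zero, sub_zero, hed]
    have h3 : i ≫ d ≫ p' = 0 := by
      have h4 := congrArg (fun t => i ≫ t ≫ p') h2
      simp only [Preadditive.comp_add, Preadditive.add_comp, Category.assoc, reassoc_of% hip',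
        hip', Category.comp_id] at h4
      exact add_eq_left.1 h4
    have : e = p' ≫ i + d := by simp [hd]
    rw [this]
    simp [Preadditive.comp_add, Preadditive.add_comp, hip', reassoc_of% hip', h3]
  refine ⟨X₁, i ≫ e, e ≫ p', by rw [Category.assoc, reassoc_of% he, hie], ?_⟩
  calc (e ≫ p') ≫ i ≫ e = e ≫ (p' ≫ i) ≫ e := by simp only [Category.assoc]
    _ = e := by
      rw [hee, Preadditive.sub_comp, Preadditive.comp_sub, he, he, hede, sub_zero]

open Triangulated in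
lemma splits_of_heart (t : TStructure C) (X : C) (n : ℤ) [t.IsLE X n] [t.IsGE X n] :
    Splits X := by
  intro e he
  obtain ⟨Q, q, k, hT⟩ := distinguished_cocone_triangle (𝟙 X - e)
  haveI : t.IsLE (X⟦(1 : ℤ)⟧) (n - 1) := t.isLE_shift X n 1 (n - 1)
  let π : X ⟶ (t.truncGE n).obj Q := q ≫ (t.truncGEπ n).app Q
  have hπ : (𝟙 X - e) ≫ π = 0 := by
    simp only [π]
    rw [← Category.assoc, show (𝟙 X - e) ≫ q = 0 from comp_distTriang_mor_zero₁₂ _ hT, zero_comp]
  have huniq : ∀ (Y : C) [t.IsGE Y n] (u v : (t.truncGE n).obj Q ⟶ Y),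
      π ≫ u = π ≫ v → u = v := by
    intro Y _ u v huv
    apply t.from_truncGE_obj_ext
    have key : q ≫ ((t.truncGEπ n).app Q ≫ u - (t.truncGEπ n).app Q ≫ v) = 0 := by
      simp only [π, Category.assoc] at huv
      rw [Preadditive.comp_sub, huv, sub_self]
    obtain ⟨w, hw⟩ := Triangle.yoneda_exact₃ _ hT _ key
    rw [← sub_eq_zero]
    have hw0 : w = 0 := (fun v : X⟦(1 : ℤ)⟧ ⟶ Y => t.zero v (n - 1) n (by omega)) w
    exact hw.trans ((congrArg (k ≫ ·) hw0).trans comp_zero)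
  obtain ⟨s₀, hs₀⟩ := Triangle.yoneda_exact₂ _ hT e (by
    change (𝟙 X - e) ≫ e = 0
    rw [Preadditive.sub_comp, Category.id_comp, he, sub_self])
  change Q ⟶ X at s₀
  change e = q ≫ s₀ at hs₀
  let s := t.descTruncGE s₀ n
  have hs : π ≫ s = e := by
    simp only [π, s, Category.assoc, TStructure.π_descTruncGE, hs₀]
  refine ⟨_, s, π, huniq _ _ _ ?_, hs⟩
  rw [← Category.assoc, hs, Category.comp_id]
  rw [Preadditive.sub_comp, Category.id_comp, sub_eq_zero] at hπ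
  exact hπ.symm

open Triangulated in
theorem isIdempotentComplete (t : TStructure C) (hb : ∀ X : C, t.bounded X) :
    IsIdempotentComplete C := by
  suffices ∀ (k : ℕ) (X : C) (a b : ℤ), t.IsGE X a → t.IsLE X b → b - a ≤ k → Splits X by
    refine ⟨fun X e he => ?_⟩
    obtain ⟨⟨a, ha⟩, ⟨b, hb'⟩⟩ := hb X
    exact this (b - a).toNat X a b ha hb' (by omega) e he
  intro k
  induction k with
  | zero =>
    intro X a b ha hb hab
    haveI : t.IsLE X a := t.isLE_of_le X b a (by omega)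
    exact splits_of_heart t X a
  | succ k ih =>
    intro X a b ha hb hk
    by_cases hk' : b - a ≤ k
    · exact ih X a b ha hb hk'
    have hT := t.triangleLTGE_distinguished b X
    let A := (t.truncLT b).obj X
    let B := (t.truncGE b).obj X
    haveI : t.IsLE (X⟦(0 : ℤ)⟧) b := t.isLE_shift X b 0 b
    haveI hAle : t.IsLE A (b - 1) := inferInstanceAs (t.IsLE ((t.truncLT b).obj X) (b - 1))
    haveI hBge : t.IsGE B b := inferInstanceAs (t.IsGE ((t.truncGE b).obj X) b)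
    haveI : t.IsLE (A⟦(1 : ℤ)⟧) (b - 2) := t.isLE_shift A (b - 1) 1 (b - 2)
    have hAge : t.IsGE A a := by
      refine t.isGE₂ _ (inv_rot_of_distTriang _ hT) a ?_ ha
      haveI : t.IsGE (B⟦(-1 : ℤ)⟧) (b + 1) := t.isGE_shift B b (-1) (b + 1)
      exact t.isGE_of_ge (B⟦(-1 : ℤ)⟧) a (b + 1) (by omega)
    have hBle : t.IsLE B b := by
      refine t.isLE₂ _ (rot_of_distTriang _ hT) b hb ?_
      exact t.isLE_of_le (A⟦(1 : ℤ)⟧) (b - 2) b (by omega)
    exact splits_of_distTriang _ _ _ hT (fun u => t.zero u (b - 1) b (by omega))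
      (fun u => t.zero u (b - 2) b (by omega)) (ih A a (b - 1) hAge hAle (by omega))
      (splits_of_heart t B b)

end Groth.Agent.TriIdem.TStruct
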